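import Cfsg.Agent.Lib.InvChar.SporHNModel
import Cfsg.Agent.Lib.InvChar.SporData.HN.Rel.B0

set_option autoImplicit false
set_option maxRecDepth 100000

namespace CfsgLib.InvChar.SporHN

open CfsgLib.InvChar.Coset

theorem chk_B0 : chkRelRows [1, 5, 0, 5, 5] [[]] relB0 = true := by decide +kernel

end CfsgLib.InvChar.SporHN
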